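import Cfsg.Agent.Lib.Helper9.TCData.O73B0.Main

set_option autoImplicit false
set_option maxRecDepth 1000000

namespace Cfsg.Agent.Helper9.TCData.O73B0
open Cfsg.Agent.Helper9.TC2

theorem e1_1 : allRange 2181 2152 (fun u => chkE tab 1 u) = true := by decide +kernel

theorem e1_2 : allRange 4333 2160 (fun u => chkE tab 1 u) = true := by decide +kernel

theorem e1_3 : allRange 6493 2188 (fun u => chkE tab 1 u) = true := by decide +kernel

theorem e1_4 : allRange 8681 2230 (fun u => chkE tab 1 u) = true := by decide +kernel

theorem e1_5 : allRange 10911 2292 (fun u => chkE tab 1 u) = true := by decide +kernel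

theorem e1_6 : allRange 13203 3835 (fun u => chkE tab 1 u) = true := by decide +kernel

theorem e2_0 : allRange 0 2261 (fun u => chkE tab 2 u) = true := by decide +kernel

theorem e2_1 : allRange 2261 2171 (fun u => chkE tab 2 u) = true := by decide +kernel


end Cfsg.Agent.Helper9.TCData.O73B0
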