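import Cfsg.Agent.Lib.Helper9.TCData.O73B0.Main

set_option autoImplicit false
set_option maxRecDepth 1000000

namespace Cfsg.Agent.Helper9.TCData.O73B0
open Cfsg.Agent.Helper9.TC2

theorem m2_31 : allRange 2852 92 (fun u => chkFix tab mwordsA u) = true := by decide +kernel

theorem m2_32 : allRange 2944 92 (fun u => chkFix tab mwordsA u) = true := by decide +kernel

theorem m2_33 : allRange 3036 92 (fun u => chkFix tab mwordsA u) = true := by decide +kernel

theorem m2_34 : allRange 3128 31 (fun u => chkFix tab mwordsA u) = true := by decide +kernel


end Cfsg.Agent.Helper9.TCData.O73B0
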