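import Cfsg.Agent.Lib.Helper9.TCData.O73B0.Main

set_option autoImplicit false
set_option maxRecDepth 1000000

namespace Cfsg.Agent.Helper9.TCData.O73B0
open Cfsg.Agent.Helper9.TC2

theorem x_8 : allRange 856 107 (fun u => Nat.beq ((runT tab xw)^[13] u) u) = true := by decide +kernel

theorem x_9 : allRange 963 107 (fun u => Nat.beq ((runT tab xw)^[13] u) u) = true := by decide +kernel

theorem x_10 : allRange 1070 107 (fun u => Nat.beq ((runT tab xw)^[13] u) u) = true := by decide +kernel

theorem x_11 : allRange 1177 107 (fun u => Nat.beq ((runT tab xw)^[13] u) u) = true := by decide +kernel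

theorem x_12 : allRange 1284 107 (fun u => Nat.beq ((runT tab xw)^[13] u) u) = true := by decide +kernel

theorem x_13 : allRange 1391 107 (fun u => Nat.beq ((runT tab xw)^[13] u) u) = true := by decide +kernel

theorem x_14 : allRange 1498 107 (fun u => Nat.beq ((runT tab xw)^[13] u) u) = true := by decide +kernel

theorem x_15 : allRange 1605 107 (fun u => Nat.beq ((runT tab xw)^[13] u) u) = true := by decide +kernel


end Cfsg.Agent.Helper9.TCData.O73B0
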