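import Cfsg.Agent.Lib.Helper9.TCData.O73B0.Main

set_option autoImplicit false
set_option maxRecDepth 1000000

namespace Cfsg.Agent.Helper9.TCData.O73B0
open Cfsg.Agent.Helper9.TC2

theorem e4_4 : allRange 9275 2221 (fun u => chkE tab 4 u) = true := by decide +kernel

theorem e4_5 : allRange 11496 2814 (fun u => chkE tab 4 u) = true := by decide +kernel

theorem e4_6 : allRange 14310 2728 (fun u => chkE tab 4 u) = true := by decide +kernel

theorem e5_0 : allRange 0 2260 (fun u => chkE tab 5 u) = true := by decide +kernel

theorem e5_1 : allRange 2260 2681 (fun u => chkE tab 5 u) = true := by decide +kernel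

theorem e5_2 : allRange 4941 2470 (fun u => chkE tab 5 u) = true := by decide +kernel

theorem e5_3 : allRange 7411 2365 (fun u => chkE tab 5 u) = true := by decide +kernel

theorem e5_4 : allRange 9776 2244 (fun u => chkE tab 5 u) = true := by decide +kernel


end Cfsg.Agent.Helper9.TCData.O73B0
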