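import Cfsg.Agent.Lib.Helper9.TCData.O73B0.Main

set_option autoImplicit false
set_option maxRecDepth 1000000

namespace Cfsg.Agent.Helper9.TCData.O73B0
open Cfsg.Agent.Helper9.TC2

theorem e5_5 : allRange 12020 3646 (fun u => chkE tab 5 u) = true := by decide +kernel

theorem e5_6 : allRange 15666 1372 (fun u => chkE tab 5 u) = true := by decide +kernel

theorem e6_0 : allRange 0 2436 (fun u => chkE tab 6 u) = true := by decide +kernel

theorem e6_1 : allRange 2436 2876 (fun u => chkE tab 6 u) = true := by decide +kernel

theorem e6_2 : allRange 5312 3057 (fun u => chkE tab 6 u) = true := by decide +kernel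

theorem e6_3 : allRange 8369 2846 (fun u => chkE tab 6 u) = true := by decide +kernel

theorem e6_4 : allRange 11215 3293 (fun u => chkE tab 6 u) = true := by decide +kernel

theorem e6_5 : allRange 14508 2530 (fun u => chkE tab 6 u) = true := by decide +kernel


end Cfsg.Agent.Helper9.TCData.O73B0
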