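import Cfsg.Agent.Lib.Helper9.TCData.O73B0.Main

set_option autoImplicit false
set_option maxRecDepth 1000000

namespace Cfsg.Agent.Helper9.TCData.O73B0
open Cfsg.Agent.Helper9.TC2

theorem l_0 : allRange 0 3270 (fun u => chkL tab u) = true := by decide +kernel

theorem l_1 : allRange 3270 2090 (fun u => chkL tab u) = true := by decide +kernel

theorem l_2 : allRange 5360 1922 (fun u => chkL tab u) = true := by decide +kernel

theorem l_3 : allRange 7282 1772 (fun u => chkL tab u) = true := by decide +kernel

theorem l_4 : allRange 9054 1795 (fun u => chkL tab u) = true := by decide +kernel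

theorem l_5 : allRange 10849 1726 (fun u => chkL tab u) = true := by decide +kernel

theorem l_6 : allRange 12575 1610 (fun u => chkL tab u) = true := by decide +kernel

theorem l_7 : allRange 14185 1667 (fun u => chkL tab u) = true := by decide +kernel


end Cfsg.Agent.Helper9.TCData.O73B0
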