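import Cfsg.Agent.Lib.Helper9.TCData.O73B0.S0
import Cfsg.Agent.Lib.Helper9.TCData.O73B0.S1
import Cfsg.Agent.Lib.Helper9.TCData.O73B0.S2
import Cfsg.Agent.Lib.Helper9.TCData.O73B0.S3
import Cfsg.Agent.Lib.Helper9.TCData.O73B0.S4
import Cfsg.Agent.Lib.Helper9.TCData.O73B0.S5
import Cfsg.Agent.Lib.Helper9.TCData.O73B0.S6
import Cfsg.Agent.Lib.Helper9.TCData.O73B0.S7
import Cfsg.Agent.Lib.Helper9.TCData.O73B0.S8
import Cfsg.Agent.Lib.Helper9.TCData.O73B0.S9
import Cfsg.Agent.Lib.Helper9.TCData.O73B0.S10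
import Cfsg.Agent.Lib.Helper9.TCData.O73B0.S11
import Cfsg.Agent.Lib.Helper9.TCData.O73B0.S12
import Cfsg.Agent.Lib.Helper9.TCData.O73B0.S13
import Cfsg.Agent.Lib.Helper9.TCData.O73B0.S14
import Cfsg.Agent.Lib.Helper9.TCData.O73B0.S15
import Cfsg.Agent.Lib.Helper9.TCData.O73B0.S16
import Cfsg.Agent.Lib.Helper9.TCData.O73B0.S17
import Cfsg.Agent.Lib.Helper9.TCData.O73B0.S18
import Cfsg.Agent.Lib.Helper9.TCData.O73B0.S19
import Cfsg.Agent.Lib.Helper9.TCData.O73B0.S20
import Cfsg.Agent.Lib.Helper9.TCData.O73B0.S21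
import Cfsg.Agent.Lib.Helper9.TCData.O73B0.S22
import Cfsg.Agent.Lib.Helper9.TCData.O73B0.S23
import Cfsg.Agent.Lib.Helper9.TCData.O73B0.S24
import Cfsg.Agent.Lib.Helper9.TCData.O73B0.S25
import Cfsg.Agent.Lib.Helper9.TCData.O73B0.S26
import Cfsg.Agent.Lib.Helper9.TCData.O73B0.S27
import Cfsg.Agent.Lib.Helper9.TCData.O73B0.S28
import Cfsg.Agent.Lib.Helper9.TCData.O73B0.S29

set_option autoImplicit false
set_option maxRecDepth 1000000

namespace Cfsg.Agent.Helper9.TCData.O73B0
open Cfsg.Agent.Helper9.TC2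


theorem hE0 : ∀ u < 17038, chkE tab 0 u = true := by
  have h0 : ∀ u < 0, (fun u => chkE tab 0 u) u = true := range_zero
  have h1 : ∀ u < 2146, (fun u => chkE tab 0 u) u = true := ext_range (a := 0) (len := 2146) h0 e0_0
  have h2 : ∀ u < 4295, (fun u => chkE tab 0 u) u = true := ext_range (a := 2146) (len := 2149) h1 e0_1
  have h3 : ∀ u < 6431, (fun u => chkE tab 0 u) u = true := ext_range (a := 4295) (len := 2136) h2 e0_2
  have h4 : ∀ u < 8633, (fun u => chkE tab 0 u) u = true := ext_range (a := 6431) (len := 2202) h3 e0_3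
  have h5 : ∀ u < 10829, (fun u => chkE tab 0 u) u = true := ext_range (a := 8633) (len := 2196) h4 e0_4
  have h6 : ∀ u < 13058, (fun u => chkE tab 0 u) u = true := ext_range (a := 10829) (len := 2229) h5 e0_5
  have h7 : ∀ u < 17038, (fun u => chkE tab 0 u) u = true := ext_range (a := 13058) (len := 3980) h6 e0_6
  exact h7

theorem hE1 : ∀ u < 17038, chkE tab 1 u = true := by
  have h0 : ∀ u < 0, (fun u => chkE tab 1 u) u = true := range_zero
  have h1 : ∀ u < 2181, (fun u => chkE tab 1 u) u = true := ext_range (a := 0) (len := 2181) h0 e1_0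
  have h2 : ∀ u < 4333, (fun u => chkE tab 1 u) u = true := ext_range (a := 2181) (len := 2152) h1 e1_1
  have h3 : ∀ u < 6493, (fun u => chkE tab 1 u) u = true := ext_range (a := 4333) (len := 2160) h2 e1_2
  have h4 : ∀ u < 8681, (fun u => chkE tab 1 u) u = true := ext_range (a := 6493) (len := 2188) h3 e1_3
  have h5 : ∀ u < 10911, (fun u => chkE tab 1 u) u = true := ext_range (a := 8681) (len := 2230) h4 e1_4
  have h6 : ∀ u < 13203, (fun u => chkE tab 1 u) u = true := ext_range (a := 10911) (len := 2292) h5 e1_5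
  have h7 : ∀ u < 17038, (fun u => chkE tab 1 u) u = true := ext_range (a := 13203) (len := 3835) h6 e1_6
  exact h7

theorem hE2 : ∀ u < 17038, chkE tab 2 u = true := by
  have h0 : ∀ u < 0, (fun u => chkE tab 2 u) u = true := range_zero
  have h1 : ∀ u < 2261, (fun u => chkE tab 2 u) u = true := ext_range (a := 0) (len := 2261) h0 e2_0
  have h2 : ∀ u < 4432, (fun u => chkE tab 2 u) u = true := ext_range (a := 2261) (len := 2171) h1 e2_1
  have h3 : ∀ u < 6743, (fun u => chkE tab 2 u) u = true := ext_range (a := 4432) (len := 2311) h2 e2_2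
  have h4 : ∀ u < 9076, (fun u => chkE tab 2 u) u = true := ext_range (a := 6743) (len := 2333) h3 e2_3
  have h5 : ∀ u < 11497, (fun u => chkE tab 2 u) u = true := ext_range (a := 9076) (len := 2421) h4 e2_4
  have h6 : ∀ u < 14761, (fun u => chkE tab 2 u) u = true := ext_range (a := 11497) (len := 3264) h5 e2_5
  have h7 : ∀ u < 17038, (fun u => chkE tab 2 u) u = true := ext_range (a := 14761) (len := 2277) h6 e2_6
  exact h7

theorem hE3 : ∀ u < 17038, chkE tab 3 u = true := by
  have h0 : ∀ u < 0, (fun u => chkE tab 3 u) u = true := range_zero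
  have h1 : ∀ u < 2461, (fun u => chkE tab 3 u) u = true := ext_range (a := 0) (len := 2461) h0 e3_0
  have h2 : ∀ u < 4704, (fun u => chkE tab 3 u) u = true := ext_range (a := 2461) (len := 2243) h1 e3_1
  have h3 : ∀ u < 6896, (fun u => chkE tab 3 u) u = true := ext_range (a := 4704) (len := 2192) h2 e3_2
  have h4 : ∀ u < 9153, (fun u => chkE tab 3 u) u = true := ext_range (a := 6896) (len := 2257) h3 e3_3
  have h5 : ∀ u < 11491, (fun u => chkE tab 3 u) u = true := ext_range (a := 9153) (len := 2338) h4 e3_4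
  have h6 : ∀ u < 14486, (fun u => chkE tab 3 u) u = true := ext_range (a := 11491) (len := 2995) h5 e3_5
  have h7 : ∀ u < 17038, (fun u => chkE tab 3 u) u = true := ext_range (a := 14486) (len := 2552) h6 e3_6
  exact h7

theorem hE4 : ∀ u < 17038, chkE tab 4 u = true := by
  have h0 : ∀ u < 0, (fun u => chkE tab 4 u) u = true := range_zero
  have h1 : ∀ u < 2419, (fun u => chkE tab 4 u) u = true := ext_range (a := 0) (len := 2419) h0 e4_0
  have h2 : ∀ u < 4865, (fun u => chkE tab 4 u) u = true := ext_range (a := 2419) (len := 2446) h1 e4_1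
  have h3 : ∀ u < 7075, (fun u => chkE tab 4 u) u = true := ext_range (a := 4865) (len := 2210) h2 e4_2
  have h4 : ∀ u < 9275, (fun u => chkE tab 4 u) u = true := ext_range (a := 7075) (len := 2200) h3 e4_3
  have h5 : ∀ u < 11496, (fun u => chkE tab 4 u) u = true := ext_range (a := 9275) (len := 2221) h4 e4_4
  have h6 : ∀ u < 14310, (fun u => chkE tab 4 u) u = true := ext_range (a := 11496) (len := 2814) h5 e4_5
  have h7 : ∀ u < 17038, (fun u => chkE tab 4 u) u = true := ext_range (a := 14310) (len := 2728) h6 e4_6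
  exact h7

theorem hE5 : ∀ u < 17038, chkE tab 5 u = true := by
  have h0 : ∀ u < 0, (fun u => chkE tab 5 u) u = true := range_zero
  have h1 : ∀ u < 2260, (fun u => chkE tab 5 u) u = true := ext_range (a := 0) (len := 2260) h0 e5_0
  have h2 : ∀ u < 4941, (fun u => chkE tab 5 u) u = true := ext_range (a := 2260) (len := 2681) h1 e5_1
  have h3 : ∀ u < 7411, (fun u => chkE tab 5 u) u = true := ext_range (a := 4941) (len := 2470) h2 e5_2
  have h4 : ∀ u < 9776, (fun u => chkE tab 5 u) u = true := ext_range (a := 7411) (len := 2365) h3 e5_3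
  have h5 : ∀ u < 12020, (fun u => chkE tab 5 u) u = true := ext_range (a := 9776) (len := 2244) h4 e5_4
  have h6 : ∀ u < 15666, (fun u => chkE tab 5 u) u = true := ext_range (a := 12020) (len := 3646) h5 e5_5
  have h7 : ∀ u < 17038, (fun u => chkE tab 5 u) u = true := ext_range (a := 15666) (len := 1372) h6 e5_6
  exact h7

theorem hE6 : ∀ u < 17038, chkE tab 6 u = true := by
  have h0 : ∀ u < 0, (fun u => chkE tab 6 u) u = true := range_zero
  have h1 : ∀ u < 2436, (fun u => chkE tab 6 u) u = true := ext_range (a := 0) (len := 2436) h0 e6_0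
  have h2 : ∀ u < 5312, (fun u => chkE tab 6 u) u = true := ext_range (a := 2436) (len := 2876) h1 e6_1
  have h3 : ∀ u < 8369, (fun u => chkE tab 6 u) u = true := ext_range (a := 5312) (len := 3057) h2 e6_2
  have h4 : ∀ u < 11215, (fun u => chkE tab 6 u) u = true := ext_range (a := 8369) (len := 2846) h3 e6_3
  have h5 : ∀ u < 14508, (fun u => chkE tab 6 u) u = true := ext_range (a := 11215) (len := 3293) h4 e6_4
  have h6 : ∀ u < 17038, (fun u => chkE tab 6 u) u = true := ext_range (a := 14508) (len := 2530) h5 e6_5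
  exact h6

theorem hE7 : ∀ u < 17038, chkE tab 7 u = true := by
  have h0 : ∀ u < 0, (fun u => chkE tab 7 u) u = true := range_zero
  have h1 : ∀ u < 2350, (fun u => chkE tab 7 u) u = true := ext_range (a := 0) (len := 2350) h0 e7_0
  have h2 : ∀ u < 5046, (fun u => chkE tab 7 u) u = true := ext_range (a := 2350) (len := 2696) h1 e7_1
  have h3 : ∀ u < 8474, (fun u => chkE tab 7 u) u = true := ext_range (a := 5046) (len := 3428) h2 e7_2
  have h4 : ∀ u < 12062, (fun u => chkE tab 7 u) u = true := ext_range (a := 8474) (len := 3588) h3 e7_3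
  have h5 : ∀ u < 17038, (fun u => chkE tab 7 u) u = true := ext_range (a := 12062) (len := 4976) h4 e7_4
  exact h5

theorem hL : ∀ u < 17038, chkL tab u = true := by
  have h0 : ∀ u < 0, (fun u => chkL tab u) u = true := range_zero
  have h1 : ∀ u < 3270, (fun u => chkL tab u) u = true := ext_range (a := 0) (len := 3270) h0 l_0
  have h2 : ∀ u < 5360, (fun u => chkL tab u) u = true := ext_range (a := 3270) (len := 2090) h1 l_1
  have h3 : ∀ u < 7282, (fun u => chkL tab u) u = true := ext_range (a := 5360) (len := 1922) h2 l_2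
  have h4 : ∀ u < 9054, (fun u => chkL tab u) u = true := ext_range (a := 7282) (len := 1772) h3 l_3
  have h5 : ∀ u < 10849, (fun u => chkL tab u) u = true := ext_range (a := 9054) (len := 1795) h4 l_4
  have h6 : ∀ u < 12575, (fun u => chkL tab u) u = true := ext_range (a := 10849) (len := 1726) h5 l_5
  have h7 : ∀ u < 14185, (fun u => chkL tab u) u = true := ext_range (a := 12575) (len := 1610) h6 l_6
  have h8 : ∀ u < 15852, (fun u => chkL tab u) u = true := ext_range (a := 14185) (len := 1667) h7 l_7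
  have h9 : ∀ u < 17038, (fun u => chkL tab u) u = true := ext_range (a := 15852) (len := 1186) h8 l_8
  exact h9

theorem hF : ∀ u < 3159, chkFin tab u = true := by
  have h0 : ∀ u < 0, (fun u => chkFin tab u) u = true := range_zero
  have h1 : ∀ u < 308, (fun u => chkFin tab u) u = true := ext_range (a := 0) (len := 308) h0 f_0
  have h2 : ∀ u < 616, (fun u => chkFin tab u) u = true := ext_range (a := 308) (len := 308) h1 f_1
  have h3 : ∀ u < 924, (fun u => chkFin tab u) u = true := ext_range (a := 616) (len := 308) h2 f_2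
  have h4 : ∀ u < 1232, (fun u => chkFin tab u) u = true := ext_range (a := 924) (len := 308) h3 f_3
  have h5 : ∀ u < 1540, (fun u => chkFin tab u) u = true := ext_range (a := 1232) (len := 308) h4 f_4
  have h6 : ∀ u < 1848, (fun u => chkFin tab u) u = true := ext_range (a := 1540) (len := 308) h5 f_5
  have h7 : ∀ u < 2156, (fun u => chkFin tab u) u = true := ext_range (a := 1848) (len := 308) h6 f_6
  have h8 : ∀ u < 2464, (fun u => chkFin tab u) u = true := ext_range (a := 2156) (len := 308) h7 f_7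
  have h9 : ∀ u < 2772, (fun u => chkFin tab u) u = true := ext_range (a := 2464) (len := 308) h8 f_8
  have h10 : ∀ u < 3080, (fun u => chkFin tab u) u = true := ext_range (a := 2772) (len := 308) h9 f_9
  have h11 : ∀ u < 3159, (fun u => chkFin tab u) u = true := ext_range (a := 3080) (len := 79) h10 f_10
  exact h11

theorem hC : ∀ u < 17038, chkCls tab u = true := by
  have h0 : ∀ u < 0, (fun u => chkCls tab u) u = true := range_zero
  have h1 : ∀ u < 2667, (fun u => chkCls tab u) u = true := ext_range (a := 0) (len := 2667) h0 c_0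
  have h2 : ∀ u < 5334, (fun u => chkCls tab u) u = true := ext_range (a := 2667) (len := 2667) h1 c_1
  have h3 : ∀ u < 8001, (fun u => chkCls tab u) u = true := ext_range (a := 5334) (len := 2667) h2 c_2
  have h4 : ∀ u < 10668, (fun u => chkCls tab u) u = true := ext_range (a := 8001) (len := 2667) h3 c_3
  have h5 : ∀ u < 13335, (fun u => chkCls tab u) u = true := ext_range (a := 10668) (len := 2667) h4 c_4
  have h6 : ∀ u < 16002, (fun u => chkCls tab u) u = true := ext_range (a := 13335) (len := 2667) h5 c_5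
  have h7 : ∀ u < 17038, (fun u => chkCls tab u) u = true := ext_range (a := 16002) (len := 1036) h6 c_6
  exact h7

theorem hM1 : ∀ u < 3159, chkM1 tab u = true := by
  have h0 : ∀ u < 0, (fun u => chkM1 tab u) u = true := range_zero
  have h1 : ∀ u < 793, (fun u => chkM1 tab u) u = true := ext_range (a := 0) (len := 793) h0 m1_0
  have h2 : ∀ u < 1586, (fun u => chkM1 tab u) u = true := ext_range (a := 793) (len := 793) h1 m1_1
  have h3 : ∀ u < 2379, (fun u => chkM1 tab u) u = true := ext_range (a := 1586) (len := 793) h2 m1_2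
  have h4 : ∀ u < 3159, (fun u => chkM1 tab u) u = true := ext_range (a := 2379) (len := 780) h3 m1_3
  exact h4

theorem hMA : ∀ u < 3159, chkAux tab aux u = true := by
  have h0 : ∀ u < 0, (fun u => chkAux tab aux u) u = true := range_zero
  have h1 : ∀ u < 690, (fun u => chkAux tab aux u) u = true := ext_range (a := 0) (len := 690) h0 ma_0
  have h2 : ∀ u < 1380, (fun u => chkAux tab aux u) u = true := ext_range (a := 690) (len := 690) h1 ma_1
  have h3 : ∀ u < 2070, (fun u => chkAux tab aux u) u = true := ext_range (a := 1380) (len := 690) h2 ma_2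
  have h4 : ∀ u < 2760, (fun u => chkAux tab aux u) u = true := ext_range (a := 2070) (len := 690) h3 ma_3
  have h5 : ∀ u < 3159, (fun u => chkAux tab aux u) u = true := ext_range (a := 2760) (len := 399) h4 ma_4
  exact h5

theorem hM2A : ∀ u < 3159, chkFix tab mwordsA u = true := by
  have h0 : ∀ u < 0, (fun u => chkFix tab mwordsA u) u = true := range_zero
  have h1 : ∀ u < 92, (fun u => chkFix tab mwordsA u) u = true := ext_range (a := 0) (len := 92) h0 m2_0
  have h2 : ∀ u < 184, (fun u => chkFix tab mwordsA u) u = true := ext_range (a := 92) (len := 92) h1 m2_1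
  have h3 : ∀ u < 276, (fun u => chkFix tab mwordsA u) u = true := ext_range (a := 184) (len := 92) h2 m2_2
  have h4 : ∀ u < 368, (fun u => chkFix tab mwordsA u) u = true := ext_range (a := 276) (len := 92) h3 m2_3
  have h5 : ∀ u < 460, (fun u => chkFix tab mwordsA u) u = true := ext_range (a := 368) (len := 92) h4 m2_4
  have h6 : ∀ u < 552, (fun u => chkFix tab mwordsA u) u = true := ext_range (a := 460) (len := 92) h5 m2_5
  have h7 : ∀ u < 644, (fun u => chkFix tab mwordsA u) u = true := ext_range (a := 552) (len := 92) h6 m2_6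
  have h8 : ∀ u < 736, (fun u => chkFix tab mwordsA u) u = true := ext_range (a := 644) (len := 92) h7 m2_7
  have h9 : ∀ u < 828, (fun u => chkFix tab mwordsA u) u = true := ext_range (a := 736) (len := 92) h8 m2_8
  have h10 : ∀ u < 920, (fun u => chkFix tab mwordsA u) u = true := ext_range (a := 828) (len := 92) h9 m2_9
  have h11 : ∀ u < 1012, (fun u => chkFix tab mwordsA u) u = true := ext_range (a := 920) (len := 92) h10 m2_10
  have h12 : ∀ u < 1104, (fun u => chkFix tab mwordsA u) u = true := ext_range (a := 1012) (len := 92) h11 m2_11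
  have h13 : ∀ u < 1196, (fun u => chkFix tab mwordsA u) u = true := ext_range (a := 1104) (len := 92) h12 m2_12
  have h14 : ∀ u < 1288, (fun u => chkFix tab mwordsA u) u = true := ext_range (a := 1196) (len := 92) h13 m2_13
  have h15 : ∀ u < 1380, (fun u => chkFix tab mwordsA u) u = true := ext_range (a := 1288) (len := 92) h14 m2_14
  have h16 : ∀ u < 1472, (fun u => chkFix tab mwordsA u) u = true := ext_range (a := 1380) (len := 92) h15 m2_15
  have h17 : ∀ u < 1564, (fun u => chkFix tab mwordsA u) u = true := ext_range (a := 1472) (len := 92) h16 m2_16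
  have h18 : ∀ u < 1656, (fun u => chkFix tab mwordsA u) u = true := ext_range (a := 1564) (len := 92) h17 m2_17
  have h19 : ∀ u < 1748, (fun u => chkFix tab mwordsA u) u = true := ext_range (a := 1656) (len := 92) h18 m2_18
  have h20 : ∀ u < 1840, (fun u => chkFix tab mwordsA u) u = true := ext_range (a := 1748) (len := 92) h19 m2_19
  have h21 : ∀ u < 1932, (fun u => chkFix tab mwordsA u) u = true := ext_range (a := 1840) (len := 92) h20 m2_20
  have h22 : ∀ u < 2024, (fun u => chkFix tab mwordsA u) u = true := ext_range (a := 1932) (len := 92) h21 m2_21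
  have h23 : ∀ u < 2116, (fun u => chkFix tab mwordsA u) u = true := ext_range (a := 2024) (len := 92) h22 m2_22
  have h24 : ∀ u < 2208, (fun u => chkFix tab mwordsA u) u = true := ext_range (a := 2116) (len := 92) h23 m2_23
  have h25 : ∀ u < 2300, (fun u => chkFix tab mwordsA u) u = true := ext_range (a := 2208) (len := 92) h24 m2_24
  have h26 : ∀ u < 2392, (fun u => chkFix tab mwordsA u) u = true := ext_range (a := 2300) (len := 92) h25 m2_25
  have h27 : ∀ u < 2484, (fun u => chkFix tab mwordsA u) u = true := ext_range (a := 2392) (len := 92) h26 m2_26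
  have h28 : ∀ u < 2576, (fun u => chkFix tab mwordsA u) u = true := ext_range (a := 2484) (len := 92) h27 m2_27
  have h29 : ∀ u < 2668, (fun u => chkFix tab mwordsA u) u = true := ext_range (a := 2576) (len := 92) h28 m2_28
  have h30 : ∀ u < 2760, (fun u => chkFix tab mwordsA u) u = true := ext_range (a := 2668) (len := 92) h29 m2_29
  have h31 : ∀ u < 2852, (fun u => chkFix tab mwordsA u) u = true := ext_range (a := 2760) (len := 92) h30 m2_30
  have h32 : ∀ u < 2944, (fun u => chkFix tab mwordsA u) u = true := ext_range (a := 2852) (len := 92) h31 m2_31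
  have h33 : ∀ u < 3036, (fun u => chkFix tab mwordsA u) u = true := ext_range (a := 2944) (len := 92) h32 m2_32
  have h34 : ∀ u < 3128, (fun u => chkFix tab mwordsA u) u = true := ext_range (a := 3036) (len := 92) h33 m2_33
  have h35 : ∀ u < 3159, (fun u => chkFix tab mwordsA u) u = true := ext_range (a := 3128) (len := 31) h34 m2_34
  exact h35

theorem hO1 : ∀ u < 3159, chkO1 tab orb u = true := by
  have h0 : ∀ u < 0, (fun u => chkO1 tab orb u) u = true := range_zero
  have h1 : ∀ u < 440, (fun u => chkO1 tab orb u) u = true := ext_range (a := 0) (len := 440) h0 o1_0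
  have h2 : ∀ u < 880, (fun u => chkO1 tab orb u) u = true := ext_range (a := 440) (len := 440) h1 o1_1
  have h3 : ∀ u < 1320, (fun u => chkO1 tab orb u) u = true := ext_range (a := 880) (len := 440) h2 o1_2
  have h4 : ∀ u < 1760, (fun u => chkO1 tab orb u) u = true := ext_range (a := 1320) (len := 440) h3 o1_3
  have h5 : ∀ u < 2200, (fun u => chkO1 tab orb u) u = true := ext_range (a := 1760) (len := 440) h4 o1_4
  have h6 : ∀ u < 2640, (fun u => chkO1 tab orb u) u = true := ext_range (a := 2200) (len := 440) h5 o1_5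
  have h7 : ∀ u < 3080, (fun u => chkO1 tab orb u) u = true := ext_range (a := 2640) (len := 440) h6 o1_6
  have h8 : ∀ u < 3159, (fun u => chkO1 tab orb u) u = true := ext_range (a := 3080) (len := 79) h7 o1_7
  exact h8

theorem hO2 : ∀ u < 3159, chkO2 tab orb u = true := by
  have h0 : ∀ u < 0, (fun u => chkO2 tab orb u) u = true := range_zero
  have h1 : ∀ u < 1334, (fun u => chkO2 tab orb u) u = true := ext_range (a := 0) (len := 1334) h0 o2_0
  have h2 : ∀ u < 2668, (fun u => chkO2 tab orb u) u = true := ext_range (a := 1334) (len := 1334) h1 o2_1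
  have h3 : ∀ u < 3159, (fun u => chkO2 tab orb u) u = true := ext_range (a := 2668) (len := 491) h2 o2_2
  exact h3

theorem hOL : ∀ u < 3159, Nat.blt (orb.lab u) 4 = true := by
  have h0 : ∀ u < 0, (fun u => Nat.blt (orb.lab u) 4) u = true := range_zero
  have h1 : ∀ u < 3159, (fun u => Nat.blt (orb.lab u) 4) u = true := ext_range (a := 0) (len := 3159) h0 ol_0
  exact h1

theorem hSlp : ∀ u < 3159, chkSlp tab slp u = true := by
  have h0 : ∀ u < 0, (fun u => chkSlp tab slp u) u = true := range_zero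
  have h1 : ∀ u < 589, (fun u => chkSlp tab slp u) u = true := ext_range (a := 0) (len := 589) h0 sl_0
  have h2 : ∀ u < 1178, (fun u => chkSlp tab slp u) u = true := ext_range (a := 589) (len := 589) h1 sl_1
  have h3 : ∀ u < 1767, (fun u => chkSlp tab slp u) u = true := ext_range (a := 1178) (len := 589) h2 sl_2
  have h4 : ∀ u < 2356, (fun u => chkSlp tab slp u) u = true := ext_range (a := 1767) (len := 589) h3 sl_3
  have h5 : ∀ u < 2945, (fun u => chkSlp tab slp u) u = true := ext_range (a := 2356) (len := 589) h4 sl_4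
  have h6 : ∀ u < 3159, (fun u => chkSlp tab slp u) u = true := ext_range (a := 2945) (len := 214) h5 sl_5
  exact h6

theorem hT0 : ∀ u < 3159, chkTree tab (lidx 0) (lpar 0) (lgi 0) 0 [0, 1, 2, 3, 4, 5, 6, 7] u = true := by
  have h0 : ∀ u < 0, (fun u => chkTree tab (lidx 0) (lpar 0) (lgi 0) 0 [0, 1, 2, 3, 4, 5, 6, 7] u) u = true := range_zero
  have h1 : ∀ u < 1000, (fun u => chkTree tab (lidx 0) (lpar 0) (lgi 0) 0 [0, 1, 2, 3, 4, 5, 6, 7] u) u = true := ext_range (a := 0) (len := 1000) h0 tr0x_0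
  have h2 : ∀ u < 2000, (fun u => chkTree tab (lidx 0) (lpar 0) (lgi 0) 0 [0, 1, 2, 3, 4, 5, 6, 7] u) u = true := ext_range (a := 1000) (len := 1000) h1 tr0x_1
  have h3 : ∀ u < 3000, (fun u => chkTree tab (lidx 0) (lpar 0) (lgi 0) 0 [0, 1, 2, 3, 4, 5, 6, 7] u) u = true := ext_range (a := 2000) (len := 1000) h2 tr0x_2
  have h4 : ∀ u < 3159, (fun u => chkTree tab (lidx 0) (lpar 0) (lgi 0) 0 [0, 1, 2, 3, 4, 5, 6, 7] u) u = true := ext_range (a := 3000) (len := 159) h3 tr0x_3
  exact h4

theorem hT1 : ∀ u < 3159, chkTree tab (lidx 1) (lpar 1) (lgi 1) 1 [0, 1, 2, 3, 4, 5, 6] u = true := by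
  have h0 : ∀ u < 0, (fun u => chkTree tab (lidx 1) (lpar 1) (lgi 1) 1 [0, 1, 2, 3, 4, 5, 6] u) u = true := range_zero
  have h1 : ∀ u < 1000, (fun u => chkTree tab (lidx 1) (lpar 1) (lgi 1) 1 [0, 1, 2, 3, 4, 5, 6] u) u = true := ext_range (a := 0) (len := 1000) h0 tr1x_0
  have h2 : ∀ u < 2000, (fun u => chkTree tab (lidx 1) (lpar 1) (lgi 1) 1 [0, 1, 2, 3, 4, 5, 6] u) u = true := ext_range (a := 1000) (len := 1000) h1 tr1x_1
  have h3 : ∀ u < 3000, (fun u => chkTree tab (lidx 1) (lpar 1) (lgi 1) 1 [0, 1, 2, 3, 4, 5, 6] u) u = true := ext_range (a := 2000) (len := 1000) h2 tr1x_2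
  have h4 : ∀ u < 3159, (fun u => chkTree tab (lidx 1) (lpar 1) (lgi 1) 1 [0, 1, 2, 3, 4, 5, 6] u) u = true := ext_range (a := 3000) (len := 159) h3 tr1x_3
  exact h4

theorem hT2 : ∀ u < 3159, chkTree tab (lidx 2) (lpar 2) (lgi 2) 2 [0, 1, 2, 3, 4, 5] u = true := by
  have h0 : ∀ u < 0, (fun u => chkTree tab (lidx 2) (lpar 2) (lgi 2) 2 [0, 1, 2, 3, 4, 5] u) u = true := range_zero
  have h1 : ∀ u < 1000, (fun u => chkTree tab (lidx 2) (lpar 2) (lgi 2) 2 [0, 1, 2, 3, 4, 5] u) u = true := ext_range (a := 0) (len := 1000) h0 tr2x_0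
  have h2 : ∀ u < 2000, (fun u => chkTree tab (lidx 2) (lpar 2) (lgi 2) 2 [0, 1, 2, 3, 4, 5] u) u = true := ext_range (a := 1000) (len := 1000) h1 tr2x_1
  have h3 : ∀ u < 3000, (fun u => chkTree tab (lidx 2) (lpar 2) (lgi 2) 2 [0, 1, 2, 3, 4, 5] u) u = true := ext_range (a := 2000) (len := 1000) h2 tr2x_2
  have h4 : ∀ u < 3159, (fun u => chkTree tab (lidx 2) (lpar 2) (lgi 2) 2 [0, 1, 2, 3, 4, 5] u) u = true := ext_range (a := 3000) (len := 159) h3 tr2x_3
  exact h4

theorem hT3 : ∀ u < 3159, chkTree tab (lidx 3) (lpar 3) (lgi 3) 3 [0, 1, 3, 4, 5] u = true := by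
  have h0 : ∀ u < 0, (fun u => chkTree tab (lidx 3) (lpar 3) (lgi 3) 3 [0, 1, 3, 4, 5] u) u = true := range_zero
  have h1 : ∀ u < 1000, (fun u => chkTree tab (lidx 3) (lpar 3) (lgi 3) 3 [0, 1, 3, 4, 5] u) u = true := ext_range (a := 0) (len := 1000) h0 tr3x_0
  have h2 : ∀ u < 2000, (fun u => chkTree tab (lidx 3) (lpar 3) (lgi 3) 3 [0, 1, 3, 4, 5] u) u = true := ext_range (a := 1000) (len := 1000) h1 tr3x_1
  have h3 : ∀ u < 3000, (fun u => chkTree tab (lidx 3) (lpar 3) (lgi 3) 3 [0, 1, 3, 4, 5] u) u = true := ext_range (a := 2000) (len := 1000) h2 tr3x_2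
  have h4 : ∀ u < 3159, (fun u => chkTree tab (lidx 3) (lpar 3) (lgi 3) 3 [0, 1, 3, 4, 5] u) u = true := ext_range (a := 3000) (len := 159) h3 tr3x_3
  exact h4

theorem hT4 : ∀ u < 3159, chkTree tab (lidx 4) (lpar 4) (lgi 4) 5 [4, 5] u = true := by
  have h0 : ∀ u < 0, (fun u => chkTree tab (lidx 4) (lpar 4) (lgi 4) 5 [4, 5] u) u = true := range_zero
  have h1 : ∀ u < 1000, (fun u => chkTree tab (lidx 4) (lpar 4) (lgi 4) 5 [4, 5] u) u = true := ext_range (a := 0) (len := 1000) h0 tr4x_0
  have h2 : ∀ u < 2000, (fun u => chkTree tab (lidx 4) (lpar 4) (lgi 4) 5 [4, 5] u) u = true := ext_range (a := 1000) (len := 1000) h1 tr4x_1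
  have h3 : ∀ u < 3000, (fun u => chkTree tab (lidx 4) (lpar 4) (lgi 4) 5 [4, 5] u) u = true := ext_range (a := 2000) (len := 1000) h2 tr4x_2
  have h4 : ∀ u < 3159, (fun u => chkTree tab (lidx 4) (lpar 4) (lgi 4) 5 [4, 5] u) u = true := ext_range (a := 3000) (len := 159) h3 tr4x_3
  exact h4

theorem hT5 : ∀ u < 3159, chkTree tab (lidx 5) (lpar 5) (lgi 5) 4 [0] u = true := by
  have h0 : ∀ u < 0, (fun u => chkTree tab (lidx 5) (lpar 5) (lgi 5) 4 [0] u) u = true := range_zero
  have h1 : ∀ u < 1000, (fun u => chkTree tab (lidx 5) (lpar 5) (lgi 5) 4 [0] u) u = true := ext_range (a := 0) (len := 1000) h0 tr5x_0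
  have h2 : ∀ u < 2000, (fun u => chkTree tab (lidx 5) (lpar 5) (lgi 5) 4 [0] u) u = true := ext_range (a := 1000) (len := 1000) h1 tr5x_1
  have h3 : ∀ u < 3000, (fun u => chkTree tab (lidx 5) (lpar 5) (lgi 5) 4 [0] u) u = true := ext_range (a := 2000) (len := 1000) h2 tr5x_2
  have h4 : ∀ u < 3159, (fun u => chkTree tab (lidx 5) (lpar 5) (lgi 5) 4 [0] u) u = true := ext_range (a := 3000) (len := 159) h3 tr5x_3
  exact h4

theorem hT6 : ∀ u < 3159, chkTree tab (lidx 6) (lpar 6) (lgi 6) 8 [5] u = true := by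
  have h0 : ∀ u < 0, (fun u => chkTree tab (lidx 6) (lpar 6) (lgi 6) 8 [5] u) u = true := range_zero
  have h1 : ∀ u < 1000, (fun u => chkTree tab (lidx 6) (lpar 6) (lgi 6) 8 [5] u) u = true := ext_range (a := 0) (len := 1000) h0 tr6x_0
  have h2 : ∀ u < 2000, (fun u => chkTree tab (lidx 6) (lpar 6) (lgi 6) 8 [5] u) u = true := ext_range (a := 1000) (len := 1000) h1 tr6x_1
  have h3 : ∀ u < 3000, (fun u => chkTree tab (lidx 6) (lpar 6) (lgi 6) 8 [5] u) u = true := ext_range (a := 2000) (len := 1000) h2 tr6x_2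
  have h4 : ∀ u < 3159, (fun u => chkTree tab (lidx 6) (lpar 6) (lgi 6) 8 [5] u) u = true := ext_range (a := 3000) (len := 159) h3 tr6x_3
  exact h4

theorem hX : ∀ u < 3159, Nat.beq ((runT tab xw)^[13] u) u = true := by
  have h0 : ∀ u < 0, (fun u => Nat.beq ((runT tab xw)^[13] u) u) u = true := range_zero
  have h1 : ∀ u < 107, (fun u => Nat.beq ((runT tab xw)^[13] u) u) u = true := ext_range (a := 0) (len := 107) h0 x_0
  have h2 : ∀ u < 214, (fun u => Nat.beq ((runT tab xw)^[13] u) u) u = true := ext_range (a := 107) (len := 107) h1 x_1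
  have h3 : ∀ u < 321, (fun u => Nat.beq ((runT tab xw)^[13] u) u) u = true := ext_range (a := 214) (len := 107) h2 x_2
  have h4 : ∀ u < 428, (fun u => Nat.beq ((runT tab xw)^[13] u) u) u = true := ext_range (a := 321) (len := 107) h3 x_3
  have h5 : ∀ u < 535, (fun u => Nat.beq ((runT tab xw)^[13] u) u) u = true := ext_range (a := 428) (len := 107) h4 x_4
  have h6 : ∀ u < 642, (fun u => Nat.beq ((runT tab xw)^[13] u) u) u = true := ext_range (a := 535) (len := 107) h5 x_5
  have h7 : ∀ u < 749, (fun u => Nat.beq ((runT tab xw)^[13] u) u) u = true := ext_range (a := 642) (len := 107) h6 x_6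
  have h8 : ∀ u < 856, (fun u => Nat.beq ((runT tab xw)^[13] u) u) u = true := ext_range (a := 749) (len := 107) h7 x_7
  have h9 : ∀ u < 963, (fun u => Nat.beq ((runT tab xw)^[13] u) u) u = true := ext_range (a := 856) (len := 107) h8 x_8
  have h10 : ∀ u < 1070, (fun u => Nat.beq ((runT tab xw)^[13] u) u) u = true := ext_range (a := 963) (len := 107) h9 x_9
  have h11 : ∀ u < 1177, (fun u => Nat.beq ((runT tab xw)^[13] u) u) u = true := ext_range (a := 1070) (len := 107) h10 x_10
  have h12 : ∀ u < 1284, (fun u => Nat.beq ((runT tab xw)^[13] u) u) u = true := ext_range (a := 1177) (len := 107) h11 x_11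
  have h13 : ∀ u < 1391, (fun u => Nat.beq ((runT tab xw)^[13] u) u) u = true := ext_range (a := 1284) (len := 107) h12 x_12
  have h14 : ∀ u < 1498, (fun u => Nat.beq ((runT tab xw)^[13] u) u) u = true := ext_range (a := 1391) (len := 107) h13 x_13
  have h15 : ∀ u < 1605, (fun u => Nat.beq ((runT tab xw)^[13] u) u) u = true := ext_range (a := 1498) (len := 107) h14 x_14
  have h16 : ∀ u < 1712, (fun u => Nat.beq ((runT tab xw)^[13] u) u) u = true := ext_range (a := 1605) (len := 107) h15 x_15
  have h17 : ∀ u < 1819, (fun u => Nat.beq ((runT tab xw)^[13] u) u) u = true := ext_range (a := 1712) (len := 107) h16 x_16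
  have h18 : ∀ u < 1926, (fun u => Nat.beq ((runT tab xw)^[13] u) u) u = true := ext_range (a := 1819) (len := 107) h17 x_17
  have h19 : ∀ u < 2033, (fun u => Nat.beq ((runT tab xw)^[13] u) u) u = true := ext_range (a := 1926) (len := 107) h18 x_18
  have h20 : ∀ u < 2140, (fun u => Nat.beq ((runT tab xw)^[13] u) u) u = true := ext_range (a := 2033) (len := 107) h19 x_19
  have h21 : ∀ u < 2247, (fun u => Nat.beq ((runT tab xw)^[13] u) u) u = true := ext_range (a := 2140) (len := 107) h20 x_20
  have h22 : ∀ u < 2354, (fun u => Nat.beq ((runT tab xw)^[13] u) u) u = true := ext_range (a := 2247) (len := 107) h21 x_21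
  have h23 : ∀ u < 2461, (fun u => Nat.beq ((runT tab xw)^[13] u) u) u = true := ext_range (a := 2354) (len := 107) h22 x_22
  have h24 : ∀ u < 2568, (fun u => Nat.beq ((runT tab xw)^[13] u) u) u = true := ext_range (a := 2461) (len := 107) h23 x_23
  have h25 : ∀ u < 2675, (fun u => Nat.beq ((runT tab xw)^[13] u) u) u = true := ext_range (a := 2568) (len := 107) h24 x_24
  have h26 : ∀ u < 2782, (fun u => Nat.beq ((runT tab xw)^[13] u) u) u = true := ext_range (a := 2675) (len := 107) h25 x_25
  have h27 : ∀ u < 2889, (fun u => Nat.beq ((runT tab xw)^[13] u) u) u = true := ext_range (a := 2782) (len := 107) h26 x_26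
  have h28 : ∀ u < 2996, (fun u => Nat.beq ((runT tab xw)^[13] u) u) u = true := ext_range (a := 2889) (len := 107) h27 x_27
  have h29 : ∀ u < 3103, (fun u => Nat.beq ((runT tab xw)^[13] u) u) u = true := ext_range (a := 2996) (len := 107) h28 x_28
  have h30 : ∀ u < 3159, (fun u => Nat.beq ((runT tab xw)^[13] u) u) u = true := ext_range (a := 3103) (len := 56) h29 x_29
  exact h30

theorem hE : ∀ c < 8, ∀ u < 17038, chkE tab c u = true := by
  intro c hc
  interval_cases c
  · exact hE0
  · exact hE1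
  · exact hE2
  · exact hE3
  · exact hE4
  · exact hE5
  · exact hE6
  · exact hE7

end Cfsg.Agent.Helper9.TCData.O73B0
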