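import Cfsg.Agent.Lib.Helper9.TC2Cox
import Cfsg.Agent.Lib.Helper9.TC2Aux
import Cfsg.Agent.Lib.Helper9.TC2BSGS
import Cfsg.Agent.Lib.Helper9.TC2Pack
import Cfsg.Agent.Lib.Helper9.TCData.O73B0.P0

set_option autoImplicit false
set_option maxRecDepth 100000

namespace Cfsg.Agent.Helper9.TCData.O73B0
open Cfsg.Agent.Helper9.TC2
/-- The rotated relators. -/
noncomputable def rotT : WT := (WT.node 31 (WT.node 15 (WT.node 7 (WT.node 3 (WT.node 1 (WT.leaf [0, 7, 0, 7]) (WT.node 2 (WT.leaf [0, 6, 0, 6]) (WT.leaf [0, 2, 0, 2]))) (WT.node 5 (WT.node 4 (WT.leaf [0, 3, 0, 3]) (WT.leaf [0, 4, 0, 4])) (WT.node 6 (WT.leaf [0, 5, 0, 5]) (WT.leaf [0, 1, 0, 1, 0, 1])))) (WT.node 11 (WT.node 9 (WT.node 8 (WT.leaf [1, 7, 1, 7]) (WT.leaf [1, 6, 1, 6])) (WT.node 10 (WT.leaf [1,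 3, 1, 3]) (WT.leaf [1, 0, 1, 0, 1, 0]))) (WT.node 13 (WT.node 12 (WT.leaf [1, 4, 1, 4]) (WT.leaf [1, 2, 1, 2, 1, 2])) (WT.node 14 (WT.leaf [1, 5, 1, 5]) (WT.leaf [2, 7, 2, 7]))))) (WT.node 23 (WT.node 19 (WT.node 17 (WT.node 16 (WT.leaf [2, 1, 2, 1, 2, 1]) (WT.leaf [2, 3, 2, 3, 2, 3])) (WT.node 18 (WT.leaf [2, 0, 2, 0]) (WT.leaf [2, 4, 2, 4]))) (WT.node 21 (WT.node 20 (WT.leaf [2, 5, 2, 5]) (WT.leaf [2, 6, 2, 6, 2, 6])) (WT.node 22 (WT.leaf [2, 3, 4, 5, 6, 0, 1, 2, 3, 4, 5, 6, 0, 1, 2, 3, 4, 5, 6, 0, 1, 2, 3, 4, 5, 6, 0, 1, 2, 3, 4, 5, 6, 0, 1, 2, 3, 4, 5, 6, 0, 1, 2, 3, 4, 5, 6, 0, 1, 2, 3, 4, 5, 6, 0, 1, 2, 3, 4, 5, 6, 0, 1]) (WT.leaf [2, 6, 7, 2, 1, 0, 2, 3, 4, 2, 6, 7, 2, 1, 0, 2, 3, 4, 2, 6, 7, 2, 1, 0, 2, 3, 4, 2, 6, 7, 2, 1, 0, 2, 3, 4, 2, 6, 7, 2,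 1, 0, 2, 3, 4, 2, 6, 7, 2, 1, 0, 2, 3, 4, 2, 6, 7, 2, 1, 0, 2, 3, 4, 2, 6, 7, 2, 1, 0, 2, 3, 4, 2, 6, 7, 2, 1, 0, 2, 3, 4, 2, 6, 7, 2, 1, 0, 2, 3, 4])))) (WT.node 27 (WT.node 25 (WT.node 24 (WT.leaf [3, 7, 3, 7]) (WT.leaf [3, 6, 3, 6])) (WT.node 26 (WT.leaf [3, 4, 3, 4, 3, 4]) (WT.leaf [3, 2, 3, 2, 3, 2]))) (WT.node 29 (WT.node 28 (WT.leaf [3, 5, 3, 5]) (WT.leaf [3, 1, 3, 1])) (WT.node 30 (WT.leaf [3, 0, 3, 0]) (WT.leaf [4, 7, 4, 7])))))) (WT.node 47 (WT.node 39 (WT.node 35 (WT.node 33 (WT.node 32 (WT.leaf [4, 6, 4, 6]) (WT.leaf [4, 2, 4, 2])) (WT.node 34 (WT.leaf [4, 1, 4, 1]) (WT.leaf [4, 0, 4, 0]))) (WT.node 37 (WT.node 36 (WT.leaf [4, 5, 4, 5, 4, 5]) (WT.leaf [4, 3, 4, 3, 4, 3])) (WT.node 38 (WT.leaf [4, 5, 6, 0, 1, 2, 3, 4, 5, 6, 0, 1, 2, 3, 4, 5, 6,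 0, 1, 2, 3, 4, 5, 6, 0, 1, 2, 3, 4, 5, 6, 0, 1, 2, 3, 4, 5, 6, 0, 1, 2, 3, 4, 5, 6, 0, 1, 2, 3, 4, 5, 6, 0, 1, 2, 3, 4, 5, 6, 0, 1, 2, 3]) (WT.leaf [5, 7, 5, 7])))) (WT.node 43 (WT.node 41 (WT.node 40 (WT.leaf [5, 6, 5, 6]) (WT.leaf [5, 2, 5, 2])) (WT.node 42 (WT.leaf [5, 1, 5, 1]) (WT.leaf [5, 3, 5, 3]))) (WT.node 45 (WT.node 44 (WT.leaf [5, 0, 5, 0]) (WT.leaf [5, 4, 5, 4, 5, 4])) (WT.node 46 (WT.leaf [5, 6, 0, 1, 2, 3, 4, 5, 6, 0, 1, 2, 3, 4, 5, 6, 0, 1, 2, 3, 4, 5, 6, 0, 1, 2, 3, 4, 5, 6, 0, 1, 2, 3, 4, 5, 6, 0, 1, 2, 3, 4, 5, 6, 0, 1, 2, 3, 4, 5, 6, 0, 1, 2, 3, 4, 5, 6, 0, 1, 2, 3, 4]) (WT.leaf [6, 2, 6, 2, 6, 2]))))) (WT.node 55 (WT.node 51 (WT.node 49 (WT.node 48 (WT.leaf [6, 1, 6, 1]) (WT.leaf [6, 3, 6, 3])) (WT.node 50 (WT.leaf [6, 0, 6, 0]) (WT.leaf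 [6, 4, 6, 4]))) (WT.node 53 (WT.node 52 (WT.leaf [6, 5, 6, 5]) (WT.leaf [6, 7, 6, 7, 6, 7])) (WT.node 54 (WT.leaf [6, 0, 1, 2, 3, 4, 5, 6, 0, 1, 2, 3, 4, 5, 6, 0, 1, 2, 3, 4, 5, 6, 0, 1, 2, 3, 4, 5, 6, 0, 1, 2, 3, 4, 5, 6, 0, 1, 2, 3, 4, 5, 6, 0, 1, 2, 3, 4, 5, 6, 0, 1, 2, 3, 4, 5, 6, 0, 1, 2, 3, 4, 5]) (WT.leaf [7, 6, 7, 6, 7, 6])))) (WT.node 59 (WT.node 57 (WT.node 56 (WT.leaf [7, 2, 7, 2]) (WT.leaf [7, 1, 7, 1])) (WT.node 58 (WT.leaf [7, 3, 7, 3]) (WT.leaf [7, 0, 7, 0]))) (WT.node 61 (WT.node 60 (WT.leaf [7, 4, 7, 4]) (WT.leaf [7, 5, 7, 5])) (WT.node 62 (WT.leaf [7, 2, 1, 0, 2, 3, 4, 2, 6, 7, 2, 1, 0, 2, 3, 4, 2, 6, 7, 2, 1, 0, 2, 3, 4, 2, 6, 7, 2, 1, 0, 2, 3, 4, 2, 6, 7, 2, 1, 0, 2, 3, 4, 2, 6, 7, 2, 1, 0, 2, 3, 4, 2, 6, 7, 2, 1, 0, 2, 3, 4, 2, 6, 7, 2,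 1, 0, 2, 3, 4, 2, 6, 7, 2, 1, 0, 2, 3, 4, 2, 6, 7, 2, 1, 0, 2, 3, 4, 2, 6]) (WT.leaf [2, 1, 0, 2, 3, 4, 2, 6, 7, 2, 1, 0, 2, 3, 4, 2, 6, 7, 2, 1, 0, 2, 3, 4, 2, 6, 7, 2, 1, 0, 2, 3, 4, 2, 6, 7, 2, 1, 0, 2, 3, 4, 2, 6, 7, 2, 1, 0, 2, 3, 4, 2, 6, 7, 2, 1, 0, 2, 3, 4, 2, 6, 7, 2, 1, 0, 2, 3, 4, 2, 6, 7, 2, 1, 0, 2, 3, 4, 2, 6, 7, 2, 1, 0, 2, 3, 4, 2, 6, 7])))))))

/-- The sources of the rotated relators: relator and rotation. -/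
def rotSrc : List (ℕ × ℕ) := [(7, 2), (6, 2), (2, 2), (3, 2), (4, 2), (5, 2), (1, 2), (15, 2), (14, 2), (11, 2), (1, 1), (12, 2), (10, 2), (13, 2), (23, 2), (10, 1), (19, 2), (2, 1), (20, 2), (21, 2), (22, 2), (65, 2), (64, 6), (31, 2), (30, 2), (28, 2), (19, 1), (29, 2), (11, 1), (3, 1), (39, 2), (38, 2), (20, 1), (12, 1), (4, 1), (37, 2), (28, 1), (65, 4), (47, 2), (46, 2), (21, 1), (13, 1), (29, 1), (5, 1), (37, 1), (65, 5), (22, 1), (14, 1), (30, 1), (6, 1), (38, 1), (46, 1), (55, 2), (65, 62), (55, 1), (23, 1), (15, 1), (31, 1), (7, 1), (39, 1), (47, 1), (64, 62), (64, 27)]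

/-- The relators, as words of columns. -/
def relWords : List (List ℕ) := [[0, 0], [0, 1, 0, 1, 0, 1], [0, 2, 0, 2], [0, 3, 0, 3], [0, 4, 0, 4], [0, 5, 0, 5], [0, 6, 0, 6], [0, 7, 0, 7], [1, 0, 1, 0, 1, 0], [1, 1], [1, 2, 1, 2, 1, 2], [1, 3, 1, 3], [1, 4, 1, 4], [1, 5, 1, 5], [1, 6, 1, 6], [1, 7, 1, 7], [2, 0, 2, 0], [2, 1, 2, 1, 2, 1], [2, 2], [2, 3, 2, 3, 2, 3], [2, 4, 2, 4], [2, 5, 2, 5], [2, 6, 2, 6, 2, 6], [2, 7, 2, 7], [3, 0, 3, 0], [3, 1, 3, 1], [3, 2, 3, 2, 3, 2], [3, 3], [3, 4, 3, 4, 3, 4], [3, 5, 3, 5], [3, 6, 3, 6], [3, 7, 3, 7], [4, 0, 4, 0], [4, 1, 4, 1], [4, 2, 4, 2], [4, 3, 4, 3, 4, 3], [4, 4], [4, 5, 4, 5, 4, 5], [4, 6, 4, 6], [4, 7, 4, 7], [5, 0, 5, 0], [5, 1, 5, 1], [5, 2, 5, 2], [5, 3, 5, 3], [5, 4, 5, 4, 5, 4], [5, 5], [5, 6, 5, 6], [5,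 7, 5, 7], [6, 0, 6, 0], [6, 1, 6, 1], [6, 2, 6, 2, 6, 2], [6, 3, 6, 3], [6, 4, 6, 4], [6, 5, 6, 5], [6, 6], [6, 7, 6, 7, 6, 7], [7, 0, 7, 0], [7, 1, 7, 1], [7, 2, 7, 2], [7, 3, 7, 3], [7, 4, 7, 4], [7, 5, 7, 5], [7, 6, 7, 6, 7, 6], [7, 7], [2, 1, 0, 2, 3, 4, 2, 6, 7, 2, 1, 0, 2, 3, 4, 2, 6, 7, 2, 1, 0, 2, 3, 4, 2, 6, 7, 2, 1, 0, 2, 3, 4, 2, 6, 7, 2, 1, 0, 2, 3, 4, 2, 6, 7, 2, 1, 0, 2, 3, 4, 2, 6, 7, 2, 1, 0, 2, 3, 4, 2, 6, 7, 2, 1, 0, 2, 3, 4, 2, 6, 7, 2, 1, 0, 2, 3, 4, 2, 6, 7, 2, 1, 0, 2, 3, 4, 2, 6, 7], [0, 1, 2, 3, 4, 5, 6, 0, 1, 2, 3, 4, 5, 6, 0, 1, 2, 3, 4, 5, 6, 0, 1, 2, 3, 4, 5, 6, 0, 1, 2, 3, 4, 5, 6, 0, 1, 2, 3, 4, 5, 6, 0, 1, 2, 3, 4, 5, 6, 0, 1, 2, 3, 4, 5, 6, 0, 1, 2, 3, 4, 5, 6]]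

/-- The words of the auxiliary columns. -/
def aux : List (List ℕ) := [[2, 1, 0, 2, 3, 4, 2, 6, 7], [0, 1, 2, 3, 4, 5, 6]]

/-- The words checked on the permutation model, with auxiliary columns. -/
def mwordsA : List (List ℕ) := [[0, 1, 0, 1, 0, 1], [0, 2, 0, 2], [0, 3, 0, 3], [0, 4, 0, 4], [0, 5, 0, 5], [0, 6, 0, 6], [0, 7, 0, 7], [1, 2, 1, 2, 1, 2], [1, 3, 1, 3], [1, 4, 1, 4], [1, 5, 1, 5], [1, 6, 1, 6], [1, 7, 1, 7], [2, 3, 2, 3, 2, 3], [2, 4, 2, 4], [2, 5, 2, 5], [2, 6, 2, 6, 2, 6], [2, 7, 2, 7], [3, 4, 3, 4, 3, 4], [3, 5, 3, 5], [3, 6, 3, 6], [3, 7, 3, 7], [4, 5, 4, 5, 4, 5], [4, 6, 4, 6], [4, 7, 4, 7], [5, 6, 5, 6], [5, 7, 5, 7], [6, 7, 6, 7, 6, 7], [8, 8, 8, 8, 8, 8, 8, 8, 8, 8], [9, 9, 9, 9, 9, 9, 9, 9, 9]]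

/-- The table. -/
noncomputable def tab : Tab where
  k := 8
  inv := fun c => c
  N := 17038
  n := 3159
  Tmax := 136743
  wn := 15
  mn := 0x7fff
  subs := [[0], [1], [2], [3], [4], [5], [6]]
  rot := fun i => rotT.getF i
  ent := fun c i => bget2 entT_0 7 8 33 0x1ffffffff 255 c i
  cer := fun c i => bget2 cerT_0 6 9 17 0x1ffff 511 c i
  tau := fun c i => bget2 tauT_0 3 10 12 0xfff 1023 c i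
  lk := fun i => bget lkT_0 8 33 0x1ffffffff 255 i
  lc := fun i => bget lcT_0 8 35 0x7ffffffff 255 i
  pn := fun i => bget pnT_0 9 18 0x3ffff 511 i
  cls := fun i => bget clsT_0 10 12 0xfff 1023 i
  rep := fun i => bget repT_0 10 15 0x7fff 1023 i

/-- The straight line program of the further columns. -/
def slp : List (ℕ × List ℕ) := [(0, [2, 1, 0, 2, 3, 4, 2, 6, 7]), (0, [0, 1, 2, 3, 4, 5, 6])]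

/-- The levels: base point, generating columns, size of the orbit. -/
def levs : List (ℕ × List ℕ × ℕ) := [(0, [0, 1, 2, 3, 4, 5, 6, 7], 3159), (1, [0, 1, 2, 3, 4, 5, 6], 288), (2, [0, 1, 2, 3, 4, 5], 35), (3, [0, 1, 3, 4, 5], 12), (5, [4, 5], 3), (4, [0], 2), (8, [5], 2)]

/-- A record of the trees of the orbits. -/
noncomputable def lidx : ℕ → ℕ → ℕ := fun c i => bget2 lidxT_0 3 10 12 0xfff 1023 c i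

/-- A record of the trees of the orbits. -/
noncomputable def lpar : ℕ → ℕ → ℕ := fun c i => bget2 lparT_0 3 10 12 0xfff 1023 c i

/-- A record of the trees of the orbits. -/
noncomputable def lgi : ℕ → ℕ → ℕ := fun c i => bget2 lgiT_0 1 12 3 0x7 4095 c i

/-- The word of the element of prime power order. -/
def xw : List ℕ := [1, 6, 7, 2, 0, 4, 5, 3]


/-- The orbit certificate. -/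
noncomputable def orb : OrbData where
  lab := fun i => bget labT_0 13 2 0x3 8191 i
  dep := fun i => bget depT_0 11 5 0x1f 2047 i
  oj := fun i => bget ojT_0 12 3 0x7 4095 i
  root := fun i => bget rootT_0 11 7 0x7f 2047 i

end Cfsg.Agent.Helper9.TCData.O73B0
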