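import Cfsg.Agent.Lib.Helper9.TCData.O73B0.Main

set_option autoImplicit false
set_option maxRecDepth 1000000

namespace Cfsg.Agent.Helper9.TCData.O73B0
open Cfsg.Agent.Helper9.TC2

theorem e0_0 : allRange 0 2146 (fun u => chkE tab 0 u) = true := by decide +kernel

theorem e0_1 : allRange 2146 2149 (fun u => chkE tab 0 u) = true := by decide +kernel

theorem e0_2 : allRange 4295 2136 (fun u => chkE tab 0 u) = true := by decide +kernel

theorem e0_3 : allRange 6431 2202 (fun u => chkE tab 0 u) = true := by decide +kernel

theorem e0_4 : allRange 8633 2196 (fun u => chkE tab 0 u) = true := by decide +kernel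

theorem e0_5 : allRange 10829 2229 (fun u => chkE tab 0 u) = true := by decide +kernel

theorem e0_6 : allRange 13058 3980 (fun u => chkE tab 0 u) = true := by decide +kernel

theorem e1_0 : allRange 0 2181 (fun u => chkE tab 1 u) = true := by decide +kernel


end Cfsg.Agent.Helper9.TCData.O73B0
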